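import Cfsg.Agent.H818.Gen.Exc
import Cfsg.Agent.H225.Gen.Long
import Cfsg.Agent.H316.U6Norm

/-!
# S2187, non-toral `E` (hub X4): the interface (hub file, helper818)

`Y = D.group (KK r)`, `T = TT D (KK r)`, `X a = XX D l (KK r) a`.

* `NR hp r w y` : `y ∈ N(T)` represents `w : M.Group`;
* `Orr r τ` : the subgroup generated by the `r`-elements fixed by `τ`;
* `InS r τ H S` : the `r`-elements of `⟨X a : a ∈ S⟩` fixed by `τ` are in `H`;
* `NFrame m E z γ` : `z⁻¹ E z ≤ N(T)`, the automorphism `conj (z⁻¹ σ z) ∘ σ` acts on the roots as `γ`;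
* `Sit hp r p e τ γ E H` : the situation in a frame: `E ≤ N(T)` elementary abelian, fixed by `τ`, `H` contains the elements of
  `Orr r τ` commuting with a hyperplane of `E`;
* `NFrame.sit` : the situation of a frame; `NFrame.mem_Gam` : back to `GamY`.
* `NoPlus` : `⟨w β, β⟩ ≠ 1` for all `w` in the image of `E` and `β ∈ S`.
-/

set_option autoImplicit false
set_option linter.dupNamespace false
set_option linter.unusedSectionVars false

namespace Cfsg.Agent.H818.Mono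

open CoxeterSystem Cfsg Cfsg.Lie Cfsg.Lie.ChevalleyDatum
open Cfsg.Agent.ChevalleyStructure Cfsg.Agent.ChevalleyStructure.Elts Cfsg.Agent.ChevalleyStructure.CoxeterGeom
  Cfsg.Agent.ChevalleyStructure.CoxeterGeomTypes Cfsg.Agent.ChevalleyStructure.NPerm
open Cfsg.Agent.Tits.Roots Cfsg.Agent.Tits.Core Cfsg.Agent.Nodes Cfsg.Agent.Nodes.Reps Cfsg.Agent.Nodes.BNOf
  Cfsg.Agent.Nodes.SubComb Cfsg.Agent.Nodes.RGDChev Cfsg.Agent.Nodes.Bruhat Cfsg.Agent.Nodes.Coroot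
open Cfsg.Agent.KFacts.RgdField Cfsg.Agent.KFacts.RgdChevCoord
open Cfsg.Agent.BpExc Cfsg.Agent.BpExc.TorCent Cfsg.Agent.BpExc.TorChev Cfsg.Agent.BpExc.Tow
  Cfsg.Agent.BpExc.TowChev Cfsg.Agent.BpExc.Fr Cfsg.Agent.BpExc.LangFr
open Cfsg.Agent.H469.Exc Cfsg.Agent.H316.U6 Cfsg.Agent.H818.Gen

universe v

variable {D : ChevalleyDatum} {l : ℕ} {M : CoxeterMatrix (Fin l)} (hp : IsType D l M) (r : ℕ) [Fact r.Prime]

/-- `y ∈ N(T)` represents `w` -/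
def NR (w : M.Group) (y : ↥(D.group (KK r))) : Prop :=
  Rp M.toCoxeterSystem (tow (k := KK r) hp M.toCoxeterSystem (locFin r) r).nsys w y

/-- the group generated by the `r`-elements fixed by `τ` -/
def Orr {Y : Type*} [Group Y] (τ : MulAut Y) : Subgroup Y := Subgroup.closure {u | τ u = u ∧ ∃ j : ℕ, u ^ r ^ j = 1}

/-- the `r`-elements of `⟨X a : a ∈ S⟩` fixed by `τ` are in `H` -/
def InS (l : ℕ) (τ : MulAut ↥(D.group (KK r))) (H : Subgroup ↥(D.group (KK r))) (S : Set (Fin l → ℤ)) : Prop :=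
  ∀ u ∈ RGD.Sup (XX D l (KK r)) S, τ u = u → (∃ j : ℕ, u ^ r ^ j = 1) → u ∈ H

/-- **The situation in a frame.** -/
structure Sit (p e : ℕ) (τ : MulAut ↥(D.group (KK r))) (γ : (Fin l → ℤ) ≃+ (Fin l → ℤ))
    (E H : Subgroup ↥(D.group (KK r))) : Prop where
  he : 0 < e
  frob : IsFrob r e τ
  fr : Fr M.toCoxeterSystem hp.isCartan (TT D (KK r)) (XX D l (KK r)) τ γ
  el : IsElementaryAbelian p E
  fix : ∀ y ∈ E, τ y = y
  nrm : ∀ y ∈ E, ∃ w, NR hp r w y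
  cent : ∀ F ≤ E, F.relIndex E = p → ∀ u ∈ Orr r τ, (∀ x ∈ F, x * u = u * x) → u ∈ H

/-- no `60°` in the orbits of the elements of `E` on `S` -/
def NoPlus (E : Subgroup ↥(D.group (KK r))) (S : Set (Fin l → ℤ)) : Prop :=
  ∀ f ∈ E, ∀ w, NR hp r w f → ∀ b ∈ S,
    cpr M.toCoxeterSystem hp.isCartan (rep M.toCoxeterSystem hp.isCartan w b) b ≠ 1

variable {hp r} {q : ℕ} {K₀ : Type v} [Group K₀]

/-- a frame of `E` -/
structure NFrame (m : MData hp r q K₀) (E : Subgroup ↥(D.group (KK r))) (z : ↥(D.group (KK r)))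
    (γ : (Fin l → ℤ) ≃+ (Fin l → ℤ)) : Prop where
  fr : Fr M.toCoxeterSystem hp.isCartan (TT D (KK r)) (XX D l (KK r)) (MulAut.conj (z⁻¹ * m.σ z) * m.σ) γ
  nrm : ∀ y ∈ E, ∃ w, NR hp r w (z⁻¹ * y * z)

/-- the group `GamY` in the frame -/
noncomputable def HZ (m : MData hp r q K₀) (p : ℕ) (E : Subgroup ↥(D.group (KK r))) (z : ↥(D.group (KK r))) :
    Subgroup ↥(D.group (KK r)) := ((GamY m.ι p E).map m.ι).map (MulAut.conj z⁻¹).toMonoidHom

theorem mem_HZ {m : MData hp r q K₀} {p : ℕ} {E : Subgroup ↥(D.group (KK r))} {z u : ↥(D.group (KK r))} :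
    u ∈ HZ m p E z ↔ ∃ a ∈ GamY m.ι p E, m.ι a = z * u * z⁻¹ := by
  constructor
  · rintro ⟨_, ⟨a, ha, rfl⟩, rfl⟩
    refine ⟨a, ha, ?_⟩
    show m.ι a = z * (z⁻¹ * m.ι a * z⁻¹⁻¹) * z⁻¹
    group
  · rintro ⟨a, ha, h1⟩
    refine ⟨_, ⟨a, ha, rfl⟩, ?_⟩
    show z⁻¹ * m.ι a * z⁻¹⁻¹ = u
    rw [h1]; group

/-- the fixed points in the frame -/
theorem frame_fix {m : MData hp r q K₀} {z u : ↥(D.group (KK r))} :
    (MulAut.conj (z⁻¹ * m.σ z) * m.σ) u = u ↔ m.σ (z * u * z⁻¹) = z * u * z⁻¹ := by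
  have h1 : (MulAut.conj (z⁻¹ * m.σ z) * m.σ) u = z⁻¹ * m.σ (z * u * z⁻¹) * z := by
    show (z⁻¹ * m.σ z) * m.σ u * (z⁻¹ * m.σ z)⁻¹ = _
    rw [map_mul, map_mul, map_inv]; group
  rw [h1]
  constructor
  · intro h2
    calc m.σ (z * u * z⁻¹) = z * (z⁻¹ * m.σ (z * u * z⁻¹) * z) * z⁻¹ := by group
      _ = _ := by rw [h2]
  · intro h2
    rw [h2]; group

/-- the elements of `Orr` come from `K₀` -/
theorem exists_of_Orr (m : MData hp r q K₀) {z u : ↥(D.group (KK r))}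
    (hu : u ∈ Orr r (MulAut.conj (z⁻¹ * m.σ z) * m.σ)) : ∃ a, m.ι a = z * u * z⁻¹ := by
  have h1 : Orr r (MulAut.conj (z⁻¹ * m.σ z) * m.σ) ≤ m.ι.range.comap (MulAut.conj z).toMonoidHom := by
    refine (Subgroup.closure_le _).2 ?_
    rintro v ⟨hv, j, hj⟩
    show z * v * z⁻¹ ∈ m.ι.range
    obtain ⟨a, ha⟩ := m.exists_eq (frame_fix.1 hv) ⟨j, by rw [conj_pow, hj, mul_one, mul_inv_cancel]⟩
    exact ⟨a, ha⟩
  obtain ⟨a, ha⟩ := h1 hu
  exact ⟨a, ha⟩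

/-- **The situation of a frame.** -/
theorem NFrame.sit {m : MData hp r q K₀} {p : ℕ} {E : Subgroup ↥(D.group (KK r))} {z : ↥(D.group (KK r))}
    {γ : (Fin l → ℤ) ≃+ (Fin l → ℤ)} (F : NFrame m E z γ) (hE : IsElementaryAbelian p E) (hσ : ∀ y ∈ E, m.σ y = y) :
    Sit hp r p m.e (MulAut.conj (z⁻¹ * m.σ z) * m.σ) γ (E.map (MulAut.conj z⁻¹).toMonoidHom) (HZ m p E z) where
  he := m.he
  frob := m.frob.conj_mul _
  fr := F.fr
  el := by
    refine ⟨?_, ?_⟩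
    · have := hE.1
      constructor
      constructor
      rintro ⟨_, a, ha, rfl⟩ ⟨_, b, hb, rfl⟩
      have h1 : (⟨a, ha⟩ : ↥E) * ⟨b, hb⟩ = ⟨b, hb⟩ * ⟨a, ha⟩ := this.is_comm.comm _ _
      have h2 : a * b = b * a := congrArg Subtype.val h1
      refine Subtype.ext ?_
      show (MulAut.conj z⁻¹).toMonoidHom a * (MulAut.conj z⁻¹).toMonoidHom b =
        (MulAut.conj z⁻¹).toMonoidHom b * (MulAut.conj z⁻¹).toMonoidHom a
      rw [← map_mul, h2, map_mul]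
    · rintro _ ⟨a, ha, rfl⟩
      rw [← map_pow, hE.2 a ha, map_one]
  fix := by
    rintro _ ⟨a, ha, rfl⟩
    refine frame_fix.2 ?_
    have h1 : z * ((MulAut.conj z⁻¹).toMonoidHom a) * z⁻¹ = a := by
      show z * (z⁻¹ * a * z⁻¹⁻¹) * z⁻¹ = a
      group
    rw [h1]
    exact hσ a ha
  nrm := by
    rintro _ ⟨a, ha, rfl⟩
    obtain ⟨w, hw⟩ := F.nrm a ha
    refine ⟨w, ?_⟩
    have h1 : (MulAut.conj z⁻¹).toMonoidHom a = z⁻¹ * a * z := by
      show z⁻¹ * a * z⁻¹⁻¹ = _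
      rw [inv_inv]
    rw [h1]
    exact hw
  cent := by
    intro F' hF' hi u hu hux
    obtain ⟨a, ha⟩ := exists_of_Orr m hu
    refine mem_HZ.2 ⟨a, ?_, ha⟩
    have h0 : ∀ y : ↥(D.group (KK r)), (MulAut.conj z⁻¹).toMonoidHom ((MulAut.conj z).toMonoidHom y) = y := by
      intro y
      show z⁻¹ * (z * y * z⁻¹) * z⁻¹⁻¹ = y
      group
    have h0' : ∀ y : ↥(D.group (KK r)), (MulAut.conj z).toMonoidHom ((MulAut.conj z⁻¹).toMonoidHom y) = y := by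
      intro y
      show z * (z⁻¹ * y * z⁻¹⁻¹) * z⁻¹ = y
      group
    refine mem_GamY (F := F'.map (MulAut.conj z).toMonoidHom) ?_ ?_ ?_
    · rintro _ ⟨y, hy, rfl⟩
      obtain ⟨x, hx, hxy⟩ := hF' hy
      rw [← hxy, h0']
      exact hx
    · have h1 : (F'.map (MulAut.conj z).toMonoidHom).relIndex
          ((E.map (MulAut.conj z⁻¹).toMonoidHom).map (MulAut.conj z).toMonoidHom) = p := by
        rw [Subgroup.relIndex_map_map_of_injective _ _ (MulAut.conj z).injective, hi]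
      have h2 : (E.map (MulAut.conj z⁻¹).toMonoidHom).map (MulAut.conj z).toMonoidHom = E := by
        rw [Subgroup.map_map]
        have : ((MulAut.conj z).toMonoidHom).comp ((MulAut.conj z⁻¹).toMonoidHom) = MonoidHom.id _ :=
          MonoidHom.ext h0'
        rw [this, Subgroup.map_id]
      rwa [h2] at h1
    · rintro _ ⟨y, hy, rfl⟩
      show z * y * z⁻¹ * m.ι a = m.ι a * (z * y * z⁻¹)
      rw [ha]
      have h1 := hux y hy
      calc z * y * z⁻¹ * (z * u * z⁻¹) = z * (y * u) * z⁻¹ := by group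
        _ = z * (u * y) * z⁻¹ := by rw [h1]
        _ = _ := by group

/-- change of the frame by `y` with `y⁻¹ τ(y) ∈ T` -/
theorem NFrame.change {m : MData hp r q K₀} {E : Subgroup ↥(D.group (KK r))} {z : ↥(D.group (KK r))}
    {γ : (Fin l → ℤ) ≃+ (Fin l → ℤ)} (F : NFrame m E z γ) {y : ↥(D.group (KK r))}
    (hy : y⁻¹ * (MulAut.conj (z⁻¹ * m.σ z) * m.σ) y ∈ TT D (KK r))
    (hn : ∀ x ∈ E, ∃ w, NR hp r w (y⁻¹ * (z⁻¹ * x * z) * y)) : NFrame m E (z * y) γ := by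
  have hTn : TT D (KK r) ≤ TT D (KK r) := le_rfl
  have H := tow (k := KK r) hp M.toCoxeterSystem (locFin r) r
  refine ⟨?_, fun x hx => ?_⟩
  · have h1 : MulAut.conj ((z * y)⁻¹ * m.σ (z * y)) * m.σ =
        MulAut.conj (y⁻¹ * (MulAut.conj (z⁻¹ * m.σ z) * m.σ) y) * (MulAut.conj (z⁻¹ * m.σ z) * m.σ) := by
      apply MulEquiv.ext
      intro u
      show (z * y)⁻¹ * m.σ (z * y) * m.σ u * ((z * y)⁻¹ * m.σ (z * y))⁻¹ =
        (y⁻¹ * (z⁻¹ * m.σ z * m.σ y * (z⁻¹ * m.σ z)⁻¹)) * (z⁻¹ * m.σ z * m.σ u * (z⁻¹ * m.σ z)⁻¹) *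
          (y⁻¹ * (z⁻¹ * m.σ z * m.σ y * (z⁻¹ * m.σ z)⁻¹))⁻¹
      rw [map_mul]; group
    rw [h1]
    have h2 : Rp M.toCoxeterSystem H.nsys (1 : M.Group) (y⁻¹ * (MulAut.conj (z⁻¹ * m.σ z) * m.σ) y) :=
      rp_of_mem (by rw [TL_eq hp (locFin r)]; exact hy)
    have h3 := Fr.conj H h2
    rw [TL_eq hp (locFin r), XL_eq hp (locFin r)] at h3
    have h4 := h3.mul F.fr
    have h5 : γ.trans (repAut M.toCoxeterSystem hp.isCartan 1) = γ := by
      apply AddEquiv.ext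
      intro x
      show rep M.toCoxeterSystem hp.isCartan 1 (γ x) = γ x
      rw [map_one, Module.End.one_apply]
    rwa [h5] at h4
  · obtain ⟨w, hw⟩ := hn x hx
    refine ⟨w, ?_⟩
    have h1 : (z * y)⁻¹ * x * (z * y) = y⁻¹ * (z⁻¹ * x * z) * y := by group
    rwa [h1]

end Cfsg.Agent.H818.Mono
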